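import Mathlib

set_option autoImplicit false
universe u

namespace Groth.Agent.H8.Coef

/-- a ring is adically complete for a nilpotent ideal -/
theorem isAdicComplete_of_pow_eq_bot {R : Type*} [CommRing R] (I : Ideal R) (n : ℕ)
    (hn : I ^ n = ⊥) : IsAdicComplete I R := by
  have hbot : (I ^ n • ⊤ : Submodule R R) = ⊥ := by
    rw [hn, Submodule.bot_smul]
  refine { haus' := ?_, prec' := ?_ }
  · intro x hx
    have := hx n
    rw [hbot, SModEq.bot] at this
    exact this
  · intro f hf
    refine ⟨f n, fun k => ?_⟩
    rcases le_total k n with hkn | hnk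
    · exact hf hkn
    · have := hf hnk
      rw [hbot, SModEq.bot] at this
      rw [this]

end Groth.Agent.H8.Coef
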