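import Mathlib
import Groth.Agent.Lib.Helper5.CA.PerfGR
import Groth.Agent.Lib.Helper8.Coef.Nilp

set_option autoImplicit false
universe u

namespace Groth.Agent.H8.Coef

open IsLocalRing

/-- coefficient fields for local rings of characteristic `p` with nilpotent maximal ideal -/
theorem exists_section_of_charP (p : ℕ) (hp : p.Prime) (A : Type u) [CommRing A]
    [IsLocalRing A] [CharP A p] (hnil : ∃ n : ℕ, maximalIdeal A ^ n = ⊥) :
    ∃ σ : ResidueField A →+* A, (residue A).comp σ = RingHom.id _ := by
  haveI : Fact p.Prime := ⟨hp⟩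
  obtain ⟨n, hn⟩ := hnil
  haveI : IsAdicComplete (maximalIdeal A) A := isAdicComplete_of_pow_eq_bot _ n hn
  letI : Algebra (ZMod p) A := ZMod.algebra A p
  letI : Algebra (ULift.{u} (ZMod p)) A :=
    ((algebraMap (ZMod p) A).comp (ULift.ringEquiv : ULift.{u} (ZMod p) ≃+* ZMod p).toRingHom).toAlgebra
  haveI : Algebra.IsGeometricallyReduced (ULift.{u} (ZMod p)) (ResidueField A) :=
    Groth.Agent.H5.isGeometricallyReduced_of_perfectField _ _
  obtain ⟨σ, hσ⟩ := Groth.Agent.H5.exists_coefficientField (k := ULift.{u} (ZMod p)) (A := A)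
  exact ⟨σ.toRingHom, RingHom.ext hσ⟩

/-- relative coefficient fields -/
theorem exists_section_relative (A : Type u) [CommRing A] [IsLocalRing A]
    (A' : Type u) [CommRing A'] [IsLocalRing A'] [Algebra A A'] [IsLocalHom (algebraMap A A')]
    (hnil : ∃ n : ℕ, maximalIdeal A' ^ n = ⊥)
    (hgr : Algebra.IsGeometricallyReduced (ResidueField A) (ResidueField A'))
    (σ : ResidueField A →+* A) (hσ : (residue A).comp σ = RingHom.id _) :
    ∃ σ' : ResidueField A' →+* A', (residue A').comp σ' = RingHom.id _ ∧
      σ'.comp (ResidueField.map (algebraMap A A')) = (algebraMap A A').comp σ := by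
  obtain ⟨n, hn⟩ := hnil
  haveI : IsAdicComplete (maximalIdeal A') A' := isAdicComplete_of_pow_eq_bot _ n hn
  -- the two algebra structures on the residue field of `A'`
  let inst₀ : Algebra (ResidueField A) (ResidueField A') := inferInstance
  letI algA' : Algebra (ResidueField A) A' := ((algebraMap A A').comp σ).toAlgebra
  let inst₁ : Algebra (ResidueField A) (ResidueField A') :=
    IsLocalRing.ResidueField.algebra (R := A') (R₀ := ResidueField A)
  have heq : inst₁ = inst₀ := by
    apply Algebra.algebra_ext
    intro x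
    show residue A' (algebraMap A A' (σ x)) = ResidueField.map (algebraMap A A') x
    have h1 : residue A (σ x) = x := congrArg (fun f => f x) hσ
    conv_rhs => rw [← h1]
    rfl
  haveI : @Algebra.IsGeometricallyReduced (ResidueField A) (ResidueField A') _ _ inst₁ := by
    rw [heq]; exact hgr
  obtain ⟨σ', hσ'⟩ := @Groth.Agent.H5.exists_coefficientField (ResidueField A) A' _ _ _ algA' _ this
  refine ⟨σ'.toRingHom, RingHom.ext hσ', ?_⟩
  ext x
  show σ' (ResidueField.map (algebraMap A A') x) = algebraMap A A' (σ x)
  have h2 : ResidueField.map (algebraMap A A') x = algebraMap (ResidueField A) (ResidueField A') x := by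
    have := congrArg (fun (i : Algebra (ResidueField A) (ResidueField A')) =>
      @algebraMap _ _ _ _ i x) heq
    exact this.symm
  rw [h2, σ'.commutes]
  rfl

end Groth.Agent.H8.Coef
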